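import Groth.Agent.Lib.GenPts4.Rep
import Groth.Agent.Lib.GenPts4.Strata
import Groth.Agent.Lib.ModLimH13.LocFree
import Mathlib

/-!
# The disjoint union of the `H_p`
-/

set_option autoImplicit false
set_option linter.style.haveILetI false
set_option backward.isDefEq.respectTransparency false
set_option backward.isDefEq.respectTransparency.types false

universe u

open CategoryTheory CategoryTheory.Limits AlgebraicGeometry Opposite TopologicalSpace

noncomputable section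

namespace Groth.Agent.FlatGE4

open GenPts4

variable {X S : Scheme.{u}} (f : X ⟶ S) (F : X.Modules)

/-- Free near the generic point of every fibre, with any ranks. -/
def PtFree (T : Over S) : Prop :=
  ∀ t : T.left, ∃ (x : PicF.XT f T) (n : ℕ), PicF.XTproj f T x = t ∧
    FlatFun.IsGenericPtOfFibre (PicF.XTproj f T) x ∧ FlatFun.IsFreeOfRankNear (FGA.ET f F T) n x

variable [Smooth f] [GeometricallyIrreducible f]

theorem rank_eq_of_P {T : Over S} {p q : ℕ} (hp : P f F p T) (hq : P f F q T) (t : T.left) : p = q := by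
  obtain ⟨x, hx, hxg, U, hxU, ⟨e⟩⟩ := hp t
  obtain ⟨y, hy, hyg, V, hyV, ⟨e'⟩⟩ := hq t
  obtain rfl : x = y := ((hxg y (hy.trans hx.symm)).antisymm (hyg x (hx.trans hy.symm))).eq
  exact ModLimH13.rank_unique_at hxU hyV e e'

theorem exists_coprod_rep [IsAffine X] [IsAffine S] (hF : CohB1.IsFP F) :
    ∃ (Z : Scheme.{u}) (i : Z ⟶ S), Mono i ∧ LocallyOfFinitePresentation i ∧ QuasiCompact i ∧ QuasiSeparated i ∧
      ∀ T : Over S, PtFree f F T ↔ ∃ k : T.left ⟶ Z, k ≫ i = T.hom := by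
  have hqc := M1.isFP_isQCoh hF
  have hFT := M1.isFP_isFT hF
  haveI := M1.finite_sections hqc hFT (isAffineOpen_top X)
  obtain ⟨c, g, hg⟩ := FittingLib.exists_generators (R := Γ(X, ⊤)) (M := Γ(F, ⊤))
  let ι : Type u := ULift.{u} (Fin (c + 1))
  choose W himm hPW hhom hfp using fun p : ι => exists_rep f F p.down.1 hqc hFT
  haveI hfin : ∀ p, LocallyOfFinitePresentation (W p).hom ∧ QuasiCompact (W p).hom ∧ QuasiSeparated (W p).hom :=
    fun p => hfp p hF
  let Z : Scheme.{u} := ∐ fun p => (W p).left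
  let i : Z ⟶ S := Sigma.desc fun p => (W p).hom
  let σ := fun p => Sigma.ι (fun p => (W p).left) p
  have hσ : ∀ p, σ p ≫ i = (W p).hom := fun p => Sigma.ι_desc _ _
  have hcov : ∀ z : Z, ∃ p, z ∈ (σ p).opensRange := fun z => by
    obtain ⟨p, w, hw⟩ := (sigmaOpenCover fun p => (W p).left).exists_eq z
    exact ⟨p, w, hw⟩
  -- the condition on the preimage of a summand
  have hP : ∀ (T : Over S) (k : T.left ⟶ Z), k ≫ i = T.hom → ∀ p,
      P f F p.down.1 (Over.mk ((k ⁻¹ᵁ (σ p).opensRange).ι ≫ T.hom)) := by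
    intro T k hk p
    let U := k ⁻¹ᵁ (σ p).opensRange
    have hU : Set.range (U.ι ≫ k) ⊆ Set.range (σ p) := by
      rintro _ ⟨y, rfl⟩
      rw [Scheme.Hom.comp_apply]
      exact y.2
    refine P_of_hom f F _ (Over.homMk (IsOpenImmersion.lift (σ p) (U.ι ≫ k) hU) ?_) (hPW p)
    show IsOpenImmersion.lift (σ p) (U.ι ≫ k) hU ≫ (W p).hom = U.ι ≫ T.hom
    rw [← hσ, IsOpenImmersion.lift_fac_assoc, Category.assoc, hk]
  haveI hmono : Mono i := by
    refine ⟨fun {T₀} a b hab => ?_⟩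
    let T : Over S := Over.mk (a ≫ i)
    let U := fun pq : ι × ι => a ⁻¹ᵁ (σ pq.1).opensRange ⊓ b ⁻¹ᵁ (σ pq.2).opensRange
    have hU : iSup U = ⊤ := top_le_iff.1 fun y _ => by
      obtain ⟨p, hp⟩ := hcov (a y)
      obtain ⟨q, hq⟩ := hcov (b y)
      exact Opens.mem_iSup.2 ⟨(p, q), hp, hq⟩
    refine (T₀.openCoverOfIsOpenCover U hU).hom_ext _ _ fun pq => ?_
    obtain ⟨p, q⟩ := pq
    show (U (p, q)).ι ≫ a = (U (p, q)).ι ≫ b
    let T' : Over S := Over.mk ((U (p, q)).ι ≫ a ≫ i)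
    let m₁ : (U (p, q) : Scheme.{u}) ⟶ (a ⁻¹ᵁ (σ p).opensRange : T₀.Opens) := T₀.homOfLE inf_le_left
    let m₂ : (U (p, q) : Scheme.{u}) ⟶ (b ⁻¹ᵁ (σ q).opensRange : T₀.Opens) := T₀.homOfLE inf_le_right
    have hm₁ : m₁ ≫ (a ⁻¹ᵁ (σ p).opensRange).ι = (U (p, q)).ι := T₀.homOfLE_ι _
    have hm₂ : m₂ ≫ (b ⁻¹ᵁ (σ q).opensRange).ι = (U (p, q)).ι := T₀.homOfLE_ι _
    have hp : P f F p.down.1 T' := by
      refine P_of_hom f F _ (Over.homMk (U := T') (V := Over.mk ((a ⁻¹ᵁ (σ p).opensRange).ι ≫ T.hom)) m₁ ?_) (hP T a rfl p)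
      show m₁ ≫ (a ⁻¹ᵁ (σ p).opensRange).ι ≫ a ≫ i = (U (p, q)).ι ≫ a ≫ i
      rw [← Category.assoc, hm₁]
    have hq : P f F q.down.1 T' := by
      refine P_of_hom f F _ (Over.homMk (U := T') (V := Over.mk ((b ⁻¹ᵁ (σ q).opensRange).ι ≫ T.hom)) m₂ ?_) (hP T b hab.symm q)
      show m₂ ≫ (b ⁻¹ᵁ (σ q).opensRange).ι ≫ a ≫ i = (U (p, q)).ι ≫ a ≫ i
      rw [← Category.assoc, hm₂]
    by_cases he : IsEmpty (U (p, q) : Scheme.{u})
    · exact (isInitialOfIsEmpty (X := (U (p, q) : Scheme.{u}))).hom_ext _ _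
    rw [not_isEmpty_iff] at he
    obtain ⟨y⟩ := he
    obtain rfl : p = q := ULift.ext (α := Fin (c + 1)) p q (Fin.ext (rank_eq_of_P f F hp hq y))
    have ha : Set.range ((U (p, p)).ι ≫ a) ⊆ Set.range (σ p) := by
      rintro _ ⟨y, rfl⟩
      rw [Scheme.Hom.comp_apply]
      exact y.2.1
    have hb : Set.range ((U (p, p)).ι ≫ b) ⊆ Set.range (σ p) := by
      rintro _ ⟨y, rfl⟩
      rw [Scheme.Hom.comp_apply]
      exact y.2.2
    rw [← IsOpenImmersion.lift_fac (σ p) _ ha, ← IsOpenImmersion.lift_fac (σ p) _ hb]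
    congr 1
    haveI := himm p
    rw [← cancel_mono (W p).hom, ← hσ, IsOpenImmersion.lift_fac_assoc, IsOpenImmersion.lift_fac_assoc,
      Category.assoc, Category.assoc, hab]
  refine ⟨Z, i, hmono, IsZariskiLocalAtSource.sigmaDesc (P := @LocallyOfFinitePresentation) fun p => (hfin p).1, ?_,
    inferInstance, fun T => ⟨fun h => ?_, fun ⟨k, hk⟩ t => ?_⟩⟩
  · haveI : ∀ p, CompactSpace (W p).left := fun p => (quasiCompact_iff_compactSpace (W p).hom).1 (hfin p).2.1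
    haveI : Finite ι := inferInstanceAs (Finite (ULift.{u} (Fin (c + 1))))
    haveI : CompactSpace Z := ⟨by
      have hu : (Set.univ : Set Z) = ⋃ p, Set.range (σ p) := (Set.eq_univ_of_forall fun z => by
        obtain ⟨p, w, hw⟩ := hcov z
        exact Set.mem_iUnion.2 ⟨p, w, hw⟩).symm
      rw [hu]
      exact isCompact_iUnion fun p => isCompact_range (σ p).continuous⟩
    exact (quasiCompact_iff_compactSpace i).2 inferInstance
  · haveI := geomIrred_XTproj f T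
    have hloc : ∀ t : T.left, ∃ (V : T.left.Opens) (p : ι), t ∈ V ∧ P f F p.down.1 (Over.mk (V.ι ≫ T.hom)) := by
      intro t
      obtain ⟨x, n, hx, -, U, hxU, hfree⟩ := h t
      have hn : n ≤ c := rank_le_of_span (pullback.fst f T.hom) hqc g hg ⟨U, hxU, hfree⟩
      let V : T.left.Opens := ⟨PicF.XTproj f T '' (U : Set (PicF.XT f T)), (PicF.XTproj f T).isOpenMap _ U.isOpen⟩
      refine ⟨V, ⟨⟨n, Nat.lt_succ_of_le hn⟩⟩, ⟨x, hxU, hx⟩, fun t' => ?_⟩
      let k : Over.mk (V.ι ≫ T.hom) ⟶ T := Over.homMk V.ι rfl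
      haveI := geomIrred_XTproj f (Over.mk (V.ι ≫ T.hom))
      obtain ⟨z, hz, hzg⟩ := exists_generic (PicF.XTproj f (Over.mk (V.ι ≫ T.hom))) t'
      obtain ⟨y, hyU, hy⟩ := t'.2
      have hsq := HilbBC25.isPullback_XTmap f k
      have hw : PicF.XTproj f T (PicF.XTmap f k z) = V.ι t' := by
        rw [← Scheme.Hom.comp_apply, hsq.w, Scheme.Hom.comp_apply]
        exact congrArg k.left hz
      refine ⟨z, hz, hzg, isFreeOfRankNear_of_iso (FpqcFun14.ETIso f F k)
        (isFreeOfRankNear_pullback _ ⟨U, ?_, hfree⟩)⟩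
      exact mem_of_generic (generic_map hsq hzg) (hy.trans hw.symm) U hyU
    choose V p htV hVP using hloc
    let 𝒰 := T.left.openCoverOfIsOpenCover V (top_le_iff.1 fun y _ => Opens.mem_iSup.2 ⟨y, htV y⟩)
    have hk : ∀ t : T.left, ∃ l : (V t : Scheme.{u}) ⟶ Z, l ≫ i = (V t).ι ≫ T.hom := fun t => by
      obtain ⟨m⟩ := hhom (p t) _ (hVP t)
      exact ⟨m.left ≫ σ (p t), by rw [Category.assoc, hσ]; exact Over.w m⟩
    choose l hl using hk
    refine ⟨𝒰.glueMorphisms l fun a b => ?_, 𝒰.hom_ext _ _ fun j => ?_⟩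
    · rw [← cancel_mono i, Category.assoc, Category.assoc, hl, hl]
      exact pullback.condition_assoc (f := (V a).ι) (g := (V b).ι) T.hom
    · rw [Scheme.Cover.ι_glueMorphisms_assoc, hl]
      rfl
  · obtain ⟨p, hp⟩ := hcov (k t)
    let V := k ⁻¹ᵁ (σ p).opensRange
    let m : Over.mk (V.ι ≫ T.hom) ⟶ T := Over.homMk V.ι rfl
    obtain ⟨z, hz, hzg, hfree⟩ := hP T k hk p ⟨t, hp⟩
    have hsq := HilbBC25.isPullback_XTmap f m
    haveI : IsOpenImmersion (PicF.XTmap f m) := MorphismProperty.of_isPullback hsq.flip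
      (inferInstanceAs (IsOpenImmersion V.ι))
    refine ⟨PicF.XTmap f m z, _, ?_, generic_map hsq hzg,
      isFreeOfRankNear_of_openImm _ (isFreeOfRankNear_of_iso (FpqcFun14.ETIso f F m).symm hfree)⟩
    rw [← Scheme.Hom.comp_apply, hsq.w, Scheme.Hom.comp_apply]
    exact congrArg m.left hz

end Groth.Agent.FlatGE4
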