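import Groth.Agent.Lib.FlatGE4.Transfer
import Groth.Agent.Lib.FlatGE4.Coprod
import Groth.Agent.Lib.GenPts4.Near
import Mathlib

/-!
# The last step: flatness at the generic points of the fibres
-/

set_option autoImplicit false
set_option linter.style.haveILetI false
set_option maxSynthPendingDepth 3
set_option backward.isDefEq.respectTransparency false
set_option backward.isDefEq.respectTransparency.types false

universe u

open CategoryTheory CategoryTheory.Limits AlgebraicGeometry Opposite
open scoped TensorProduct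

attribute [local instance] Algebra.TensorProduct.rightAlgebra

noncomputable section

namespace Groth.Agent.FlatGE4

/-- Freeness on a chart over the spectrum of a ring is freeness of the extended module. -/
theorem chart_spec_iff {B : CommRingCat.{u}} (N : ModuleCat.{u} B) {X' : Scheme.{u}} (π : X' ⟶ Spec B)
    {R : CommRingCat.{u}} (φ : B ⟶ R) (j : Spec R ⟶ X') [IsOpenImmersion j] (hj : j ≫ π = Spec.map φ) (p : ℕ) :
    Nonempty (((Scheme.Modules.pullback π).obj (tilde N)).restrict j ≅ M1.fr (ULift.{u} (Fin p))) ↔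
      (letI := φ.hom.toAlgebra; Nonempty (Module.Basis (Fin p) R (R ⊗[B] N))) := by
  letI := φ.hom.toAlgebra
  let e' := (Scheme.Modules.restrictFunctorIsoPullback j).app ((Scheme.Modules.pullback π).obj (tilde N)) ≪≫
    (Scheme.Modules.pullbackComp j π).app (tilde N) ≪≫ (Scheme.Modules.pullbackCongr hj).app (tilde N) ≪≫
      M1.tildePullbackObjIso φ N
  let E := (ModuleCat.extendScalars φ.hom).obj N
  let e₃ : (R ⊗[B] (N : Type u)) ≃ₗ[R] (R ⊗[B] (N : Type u)) := LinearEquiv.refl R _
  let eE : (E : Type u) ≃ₗ[R] (R ⊗[B] (N : Type u)) := e₃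
  constructor
  · rintro ⟨i⟩
    let k := (tilde.functor R).preimageIso (e'.symm ≪≫ i ≪≫ (M1.frTildeIso _).symm)
    exact ⟨((Module.Basis.ofRepr (M := (E : Type u)) k.toLinearEquiv).map eE).reindex Equiv.ulift⟩
  · rintro ⟨β⟩
    let bb : Module.Basis (ULift.{u} (Fin p)) R (E : Type u) := (β.map eE.symm).reindex Equiv.ulift.symm
    let k : E ≅ ModuleCat.of R (ULift.{u} (Fin p) →₀ R) := bb.repr.toModuleIso
    exact ⟨e' ≪≫ (tilde.functor R).mapIso k ≪≫ M1.frTildeIso _⟩

/-- Freeness near a point of a chart over the spectrum of a ring. -/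
theorem free_near_spec_iff {B : CommRingCat.{u}} (N : ModuleCat.{u} B) {X' : Scheme.{u}} (π : X' ⟶ Spec B)
    {R : CommRingCat.{u}} (φ : B ⟶ R) (j : Spec R ⟶ X') [IsOpenImmersion j] (hj : j ≫ π = Spec.map φ) (p : ℕ)
    (q : PrimeSpectrum R) :
    FlatFun.IsFreeOfRankNear ((Scheme.Modules.pullback π).obj (tilde N)) p (j q) ↔
      ∃ b : R, b ∉ q.asIdeal ∧
        (letI := ((algebraMap R (Localization.Away b)).comp φ.hom).toAlgebra
        Nonempty (Module.Basis (Fin p) (Localization.Away b) (Localization.Away b ⊗[B] N))) := by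
  have hchart : ∀ b : R,
      Nonempty (((Scheme.Modules.pullback π).obj (tilde N)).restrict
          (Spec.map (CommRingCat.ofHom (algebraMap R (Localization.Away b))) ≫ j) ≅ M1.fr (ULift.{u} (Fin p))) ↔
        (letI := ((algebraMap R (Localization.Away b)).comp φ.hom).toAlgebra
        Nonempty (Module.Basis (Fin p) (Localization.Away b) (Localization.Away b ⊗[B] N))) := fun b => by
    haveI := IsOpenImmersion.of_isLocalization (S := Localization.Away b) b
    exact chart_spec_iff N π (φ ≫ CommRingCat.ofHom (algebraMap R (Localization.Away b))) _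
      (by rw [Category.assoc, hj, Spec.map_comp]) p
  have hrange : ∀ b : R, Set.range (Spec.map (CommRingCat.ofHom (algebraMap R (Localization.Away b)))) =
      (PrimeSpectrum.basicOpen b : Set (PrimeSpectrum R)) := fun b =>
    PrimeSpectrum.localization_away_comap_range (S := Localization.Away b) b
  constructor
  · rintro ⟨W, hW, ⟨i⟩⟩
    obtain ⟨_, ⟨b, rfl⟩, hqb, hbW⟩ := PrimeSpectrum.isTopologicalBasis_basic_opens.exists_subset_of_mem_open
      (show q ∈ ((j ⁻¹ᵁ W : (Spec R).Opens) : Set (Spec R)) from hW) (j ⁻¹ᵁ W).isOpen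
    haveI := IsOpenImmersion.of_isLocalization (S := Localization.Away b) b
    let j' := Spec.map (CommRingCat.ofHom (algebraMap R (Localization.Away b))) ≫ j
    have h : Set.range j' ⊆ Set.range W.ι := by
      rw [Scheme.Opens.range_ι]
      rintro _ ⟨z, rfl⟩
      rw [Scheme.Hom.comp_apply]
      exact hbW ((Set.ext_iff.1 (hrange b) _).1 (Set.mem_range_self z))
    refine ⟨b, hqb, (hchart b).1 ⟨?_⟩⟩
    exact (M1.restrictLiftIso _ W.ι j' h).symm ≪≫
      (Scheme.Modules.restrictFunctor (IsOpenImmersion.lift W.ι j' h)).mapIso (i ≪≫ M1.freeModFrIso _ p) ≪≫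
        (M1.frRestrictIso (IsOpenImmersion.lift W.ι j' h) _).symm
  · rintro ⟨b, hb, hβ⟩
    haveI := IsOpenImmersion.of_isLocalization (S := Localization.Away b) b
    obtain ⟨i⟩ := (hchart b).2 hβ
    obtain ⟨z, hz⟩ : q ∈ Set.range (Spec.map (CommRingCat.ofHom (algebraMap R (Localization.Away b)))) :=
      (hrange b).symm ▸ hb
    obtain ⟨W, hW, hi⟩ := CBC10.exists_open_freeMod _ i z
    exact ⟨W, by rwa [Scheme.Hom.comp_apply, hz] at hW, hi⟩

variable {A B : Type u} [CommRing A] [CommRing B] [Algebra A B] [Algebra.Smooth A B]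
  {M : Type u} [AddCommGroup M] [Module B M]

/-- Freeness near the generic point of every fibre of the base change. -/
def PtFreeRing (T : Type u) [CommRing T] [Algebra A T] (B : Type u) [CommRing B] [Algebra A B] (M : Type u)
    [AddCommGroup M] [Module B M] : Prop :=
  ∀ (t : Ideal T) [t.IsPrime], ∃ (n : ℕ) (b : T ⊗[A] B), b ∉ t.map (algebraMap T (T ⊗[A] B)) ∧
    Nonempty (Module.Basis (Fin n) (Localization.Away b) (Localization.Away b ⊗[B] M))

theorem flatInDimGE_last_iff (hB : FlatCA.GeomIrredFibres A B) (d : ℕ) (hd : FlatCA.SmoothRelDim d A B)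
    [Module.FinitePresentation B M] (T : Type u) [CommRing T] [Algebra A T] :
    GE (A := A) T d B M ↔ PtFreeRing (A := A) T B M := by
  let B' := T ⊗[A] B
  haveI : Algebra.Smooth T B' := inferInstanceAs (Algebra.Smooth T (T ⊗[A] B))
  have hB' : FlatCA.GeomIrredFibres T B' := RG4.geomIrredFibres_baseChange T hB
  have hd' : FlatCA.SmoothRelDim d T B' := by
    haveI := smoothOfRelativeDimension_isStableUnderBaseChange d
    exact MorphismProperty.of_isPullback (P := @SmoothOfRelativeDimension d)
      (isPullback_SpecMap_of_isPushout _ _ _ _ (CommRingCat.isPushout_tensorProduct A T B).flip) hd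
  let M' := B' ⊗[B] M
  haveI : Module.FinitePresentation B' M' := FinitePresentation.of_isBaseChange ((TensorProduct.mk B B' M) 1)
    (TensorProduct.isBaseChange B M B')
  have heq : ∀ b : B',
      Nonempty (Localization.Away b ⊗[B] M ≃ₗ[Localization.Away b] LocalizedModule.Away b M') := fun b => by
    exact ⟨(TensorProduct.AlgebraTensorModule.cancelBaseChange B B' (Localization.Away b) (Localization.Away b) M).symm.trans
      (LocalizedModule.equivTensorProduct (Submonoid.powers b) M').symm⟩
  rw [GE, flatInDimGE_iff]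
  constructor
  · intro h t _
    set ξ := t.map (algebraMap T B')
    haveI := Dev4.isPrime_map hB' t
    haveI := liesOver_map hB' t
    have hflat : FlatCA.FlatAt T ξ M' := by
      by_contra hc
      exact (h t ξ hc).ne (tdg_map hB' d hd' t)
    let T₀ := Localization.AtPrime t
    let O := Localization.AtPrime ξ
    letI : Algebra T₀ O := (Localization.localRingHom t ξ (algebraMap T B') (Ideal.LiesOver.over (P := ξ) (p := t))).toAlgebra
    haveI : IsScalarTower T T₀ O := IsScalarTower.of_algebraMap_eq fun x => by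
      rw [RingHom.algebraMap_toAlgebra, Localization.localRingHom_to_map, ← IsScalarTower.algebraMap_apply]
    let N₀ := LocalizedModule ξ.primeCompl M'
    letI : Module T₀ N₀ := Module.compHom N₀ (algebraMap T₀ O)
    haveI : IsScalarTower T₀ O N₀ := IsScalarTower.of_algebraMap_smul fun _ _ => rfl
    haveI : IsScalarTower T T₀ N₀ := IsScalarTower.of_algebraMap_smul fun x m => by
      show algebraMap T₀ O (algebraMap T T₀ x) • m = x • m
      rw [← IsScalarTower.algebraMap_apply, algebraMap_smul]
    haveI : Module.Flat T N₀ := hflat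
    haveI : Module.Flat T₀ N₀ := (Module.flat_iff_of_isLocalization T₀ t.primeCompl N₀).2 ‹_›
    haveI : Module.FinitePresentation O N₀ :=
      FinitePresentation.of_isBaseChange (LocalizedModule.mkLinearMap ξ.primeCompl M')
        (IsLocalizedModule.isBaseChange ξ.primeCompl O _)
    have hmax : IsLocalRing.maximalIdeal O = (IsLocalRing.maximalIdeal T₀).map (algebraMap T₀ O) := by
      rw [← Localization.AtPrime.map_eq_maximalIdeal, ← Localization.AtPrime.map_eq_maximalIdeal, Ideal.map_map,
        Ideal.map_map, ← IsScalarTower.algebraMap_eq, ← IsScalarTower.algebraMap_eq]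
    haveI : Module.Free O N₀ := GenPts4.free_of_flat_of_maximalIdeal_eq hmax
    obtain ⟨b, hb, hfree, -⟩ := Module.FinitePresentation.exists_free_localizedModule_powers
      ξ.primeCompl (LocalizedModule.mkLinearMap ξ.primeCompl M') O
    haveI := hfree
    haveI : Nontrivial (Localization.Away b) :=
      (IsLocalization.Away.lift (S := Localization.Away b) b (g := algebraMap B' O)
        (IsLocalization.map_units O (⟨b, hb⟩ : ξ.primeCompl))).domain_nontrivial
    haveI : Module.Finite (Localization.Away b) (LocalizedModule.Away b M') :=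
      Module.Finite.of_isLocalizedModule (.powers b) (LocalizedModule.mkLinearMap (.powers b) M')
    obtain ⟨e⟩ := heq b
    exact ⟨_, b, hb, ⟨(Module.finBasis (Localization.Away b) (LocalizedModule.Away b M')).map e.symm⟩⟩
  · intro h t Q _ _ _ hQ
    by_contra hc
    obtain rfl : Q = t.map (algebraMap T B') := by
      by_contra hne
      exact hc (tdg_lt_of_ne hB' d hd' t Q hne)
    obtain ⟨n, b, hb, ⟨β⟩⟩ := h t
    obtain ⟨e⟩ := heq b
    refine hQ ?_
    haveI : Module.Free (Localization.Away b) (LocalizedModule.Away b M') := Module.Free.of_basis (β.map e)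
    haveI : Module.Flat B' (Localization.Away b) := IsLocalization.flat _ (Submonoid.powers b)
    haveI : Module.Flat T (Localization.Away b) := Module.Flat.trans T B' _
    haveI : Module.Flat T (LocalizedModule.Away b M') := Module.Flat.trans T (Localization.Away b) _
    exact RG4.flat_of_isLocalizedModule (t.map (algebraMap T B')).primeCompl
      (IsLocalizedModule.liftOfLE (Submonoid.powers b) _ ((Submonoid.powers_le (P := (t.map (algebraMap T B')).primeCompl)).2 hb)
        (LocalizedModule.mkLinearMap (Submonoid.powers b) M')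
        (LocalizedModule.mkLinearMap (t.map (algebraMap T B')).primeCompl M'))

theorem basis_algebra_congr {C L M : Type u} [CommRing C] [CommRing L] [AddCommGroup M] [Module C M] {n : ℕ}
    (a₁ a₂ : Algebra C L) (h : ∀ x : C, a₁.algebraMap x = a₂.algebraMap x)
    (hβ : letI := a₁; Nonempty (Module.Basis (Fin n) L (L ⊗[C] M))) :
    letI := a₂; Nonempty (Module.Basis (Fin n) L (L ⊗[C] M)) := by
  obtain rfl : a₁ = a₂ := Algebra.algebra_ext a₁ a₂ h
  exact hβ

theorem exists_rep_last (hB : FlatCA.GeomIrredFibres A B) (d : ℕ) (hd : FlatCA.SmoothRelDim d A B)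
    [Module.FinitePresentation B M] :
    ∃ (Z : Scheme.{u}) (i : Z ⟶ Spec (CommRingCat.of A)), Mono i ∧ LocallyOfFinitePresentation i ∧ QuasiCompact i ∧
      QuasiSeparated i ∧ ∀ (T : Type u) [CommRing T] [Algebra A T],
        GE (A := A) T d B M ↔ ∃ k : Spec (CommRingCat.of T) ⟶ Z, k ≫ i = Spec.map (CommRingCat.ofHom (algebraMap A T)) := by
  let f := Spec.map (CommRingCat.ofHom (algebraMap A B))
  haveI : SmoothOfRelativeDimension d f := hd
  haveI : Smooth f := SmoothOfRelativeDimension.smooth d f
  haveI : GeometricallyIrreducible f := hB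
  let N : ModuleCat.{u} (CommRingCat.of B) := ModuleCat.of B M
  haveI : Module.FinitePresentation (CommRingCat.of B) N := ‹Module.FinitePresentation B M›
  obtain ⟨Z, i, h1, h2, h3, h4, hrep⟩ := exists_coprod_rep f (tilde N) (M1.isFP_tilde N)
  refine ⟨Z, i, h1, h2, h3, h4, fun T _ _ => (flatInDimGE_last_iff hB d hd T).trans (Iff.trans ?_
    (hrep (Over.mk (Spec.map (CommRingCat.ofHom (algebraMap A T))))))⟩
  let W : Over (Spec (CommRingCat.of A)) := Over.mk (Spec.map (CommRingCat.ofHom (algebraMap A T)))
  let R := T ⊗[A] B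
  haveI : Algebra.Smooth T R := inferInstanceAs (Algebra.Smooth T (T ⊗[A] B))
  have hR : FlatCA.GeomIrredFibres T R := RG4.geomIrredFibres_baseChange T hB
  let j : Spec (CommRingCat.of R) ⟶ PicF.XT f W :=
    (pullbackSymmetry f W.hom ≪≫ pullbackSpecIso A T B).inv
  haveI : IsIso j := inferInstanceAs (IsIso (pullbackSymmetry f W.hom ≪≫ pullbackSpecIso A T B).inv)
  let φ : CommRingCat.of B ⟶ CommRingCat.of R :=
    CommRingCat.ofHom (Algebra.TensorProduct.includeRight : B →ₐ[A] R).toRingHom
  have hj : j ≫ pullback.fst f W.hom = Spec.map φ := by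
    simp only [j, Iso.trans_inv, Category.assoc]
    exact (congrArg _ (pullbackSymmetry_inv_comp_fst _ _)).trans (pullbackSpecIso_inv_snd A T B)
  have hj' : j ≫ PicF.XTproj f W = Spec.map (CommRingCat.ofHom (algebraMap T R)) := by
    show j ≫ pullback.snd f W.hom = _
    simp only [j, Iso.trans_inv, Category.assoc]
    exact (congrArg _ (pullbackSymmetry_inv_comp_snd _ _)).trans (pullbackSpecIso_inv_fst A T B)
  have hproj : ∀ q : PrimeSpectrum R, PicF.XTproj f W (j q) = PrimeSpectrum.comap (algebraMap T R) q := fun q => by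
    rw [← Scheme.Hom.comp_apply, hj']
    rfl
  constructor
  · intro h t
    haveI := Dev4.isPrime_map hR t.asIdeal
    haveI := liesOver_map hR t.asIdeal
    obtain ⟨n, b, hb, hβ⟩ := h t.asIdeal
    let q : PrimeSpectrum R := ⟨t.asIdeal.map (algebraMap T R), inferInstance⟩
    have hq : PrimeSpectrum.comap (algebraMap T R) q = t :=
      PrimeSpectrum.ext (Ideal.LiesOver.over (P := t.asIdeal.map (algebraMap T R)) (p := t.asIdeal)).symm
    refine ⟨j q, n, (hproj q).trans hq, fun x' hx' => ?_,
      (free_near_spec_iff N (pullback.fst f W.hom) φ j hj n q).2 ⟨b, hb, basis_algebra_congr (C := B) (M := M)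
        (OreLocalization.instAlgebra : Algebra B (Localization.Away b))
        (((algebraMap R (Localization.Away b)).comp φ.hom).toAlgebra) (fun _ => rfl) hβ⟩⟩
    obtain ⟨q', rfl⟩ := j.homeomorph.surjective x'
    refine ((PrimeSpectrum.le_iff_specializes q q').1 ?_).map j.continuous
    show t.asIdeal.map (algebraMap T R) ≤ q'.asIdeal
    rw [Ideal.map_le_iff_le_comap]
    have h0 : PrimeSpectrum.comap (algebraMap T R) q' = t := (hproj q').symm.trans (hx'.trans ((hproj q).trans hq))
    exact (congrArg PrimeSpectrum.asIdeal h0).ge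
  · intro h t _
    haveI := Dev4.isPrime_map hR t
    haveI := liesOver_map hR t
    obtain ⟨x, n, hx, hxg, hfree⟩ := h (⟨t, ‹_›⟩ : PrimeSpectrum T)
    obtain ⟨q, rfl⟩ := j.homeomorph.surjective x
    obtain ⟨b, hb, hβ⟩ := (free_near_spec_iff N (pullback.fst f W.hom) φ j hj n q).1 hfree
    refine ⟨n, b, fun h0 => hb ?_, basis_algebra_congr (C := B) (M := M)
        (((algebraMap R (Localization.Away b)).comp φ.hom).toAlgebra)
        (OreLocalization.instAlgebra : Algebra B (Localization.Away b)) (fun _ => rfl) hβ⟩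
    have h1 : PrimeSpectrum.comap (algebraMap T R) q = ⟨t, ‹_›⟩ := (hproj q).symm.trans hx
    exact Ideal.map_le_iff_le_comap.2 (congrArg PrimeSpectrum.asIdeal h1).ge h0

end Groth.Agent.FlatGE4
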