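import Groth.Agent.Lib.FlatGE4.Step
import Groth.Agent.Lib.FlatGE4.Last

/-!
# Along a complete dévissage
-/

set_option autoImplicit false
set_option linter.style.haveILetI false
set_option maxSynthPendingDepth 3
set_option backward.isDefEq.respectTransparency.types false

universe u

open CategoryTheory AlgebraicGeometry
open scoped TensorProduct

attribute [local instance] Algebra.TensorProduct.rightAlgebra

noncomputable section

namespace Groth.Agent.FlatGE4

variable {A : Type u} [CommRing A] (s : Ideal A) [s.IsPrime]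

/-- Flatness at the points over `s` of transcendence degree at least `n`. -/
def HS (n : ℕ) (B : Type u) [CommRing B] [Algebra A B] (M : Type u) [AddCommGroup M] [Module B M] [Module A M]
    [IsScalarTower A B M] : Prop :=
  ∀ (Q : Ideal B) [Q.IsPrime] [Q.LiesOver s], ¬ FlatCA.FlatAt A Q M → tdg s Q < (n : Cardinal.{u})

variable {s} {n : ℕ} {B C : Type u} [CommRing B] [CommRing C] [Algebra A B] [Algebra A C] [Algebra B C]
  [IsScalarTower A B C] {M : Type u} [AddCommGroup M] [Module A M] [Module B M] [IsScalarTower A B M]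

theorem hs_congr {M' : Type u} [AddCommGroup M'] [Module A M'] [Module B M'] [IsScalarTower A B M'] (e : M ≃ₗ[B] M')
    (h : HS s n B M) : HS s n B M' :=
  fun Q _ _ hQ => h Q fun hf => hQ (RG4.flatAt_congr Q e hf)

theorem hs_down [Module.Finite B C] [Module C M] [IsScalarTower B C M] [IsScalarTower A C M] (h : HS s n B M) :
    HS s n C M := fun Q _ _ hQ => by
  let P := Q.comap (algebraMap B C)
  haveI : P.IsPrime := Ideal.comap_isPrime _ Q
  haveI : Q.LiesOver P := ⟨rfl⟩
  haveI : P.LiesOver s := ⟨by
    rw [Ideal.under_def, Ideal.comap_comap, ← IsScalarTower.algebraMap_eq]; exact Ideal.LiesOver.over (P := Q)⟩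
  rw [tdg_eq_of_integral s P Q]
  exact h P fun hf => hQ (flatAt_of_over P Q hf)

theorem hs_up [Module.Finite B C] [Module C M] [IsScalarTower B C M] [IsScalarTower A C M] (h : HS s n C M) :
    HS s n B M := fun P _ _ hP => by
  obtain ⟨Q, _, hQP, hQ⟩ : ∃ (Q : Ideal C) (_ : Q.IsPrime), Q.LiesOver P ∧ ¬ FlatCA.FlatAt A Q M := by
    by_contra hc
    push Not at hc
    exact hP (Dev4.flatAt_of_forall_over P fun Q _ hQ => hc Q inferInstance hQ)
  haveI : Q.LiesOver s := Ideal.LiesOver.trans Q P s
  rw [← tdg_eq_of_integral s P Q]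
  exact h Q hQ

theorem ge_of_subsingleton (T : Type u) [CommRing T] [Algebra A T] (B : Type u) [CommRing B] [Algebra A B]
    (M : Type u) [AddCommGroup M] [Module B M] [Subsingleton M] (n : ℕ) : GE (A := A) T n B M := by
  haveI : Subsingleton ((T ⊗[A] B) ⊗[B] M) := by
    refine subsingleton_of_forall_eq 0 fun w => ?_
    induction w using TensorProduct.induction_on with
    | zero => rfl
    | add x y hx hy => rw [hx, hy, add_zero]
    | tmul k x => rw [Subsingleton.elim x 0, TensorProduct.tmul_zero]
  intro t Q _ _ _ hQ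
  refine absurd ?_ hQ
  haveI : Subsingleton (LocalizedModule Q.primeCompl ((T ⊗[A] B) ⊗[B] M)) := by
    refine subsingleton_of_forall_eq 0 fun w => ?_
    induction w using LocalizedModule.induction_on with
    | h m s => rw [Subsingleton.elim m 0, LocalizedModule.zero_mk]
  exact (inferInstance : Module.Flat T (LocalizedModule Q.primeCompl ((T ⊗[A] B) ⊗[B] M)))

variable [Algebra.Smooth A B] (hB : FlatCA.GeomIrredFibres A B)
include hB

theorem ge_of_lt (e d : ℕ) (he : FlatCA.SmoothRelDim e A B) (hlt : e < d) (T : Type u) [CommRing T] [Algebra A T]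
    (M : Type u) [AddCommGroup M] [Module B M] : GE (A := A) T d B M := by
  intro t Q _ _ _ _
  have hd' : FlatCA.SmoothRelDim e T (T ⊗[A] B) := by
    haveI := smoothOfRelativeDimension_isStableUnderBaseChange e
    exact MorphismProperty.of_isPullback (P := @SmoothOfRelativeDimension e)
      (isPullback_SpecMap_of_isPushout _ _ _ _ (CommRingCat.isPushout_tensorProduct A T B).flip) he
  exact lt_of_le_of_lt (tdg_le e hd' t Q) (Nat.cast_lt.2 hlt)

/-- A step above the dimension. -/
theorem exists_step (e d : ℕ) (he : FlatCA.SmoothRelDim e A B) (hde : d < e) [Module.FinitePresentation B M] {r : ℕ}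
    (α : (Fin r → B) →ₗ[B] M)
    [(s.map (algebraMap A B)).IsPrime]
    (hα : Function.Bijective (α.baseChange (s.map (algebraMap A B)).ResidueField)) (hM : HS s (d + 1) B M) :
    HS s (d + 1) B (M ⧸ LinearMap.range α) ∧ ∃ g : A, g ∉ s ∧ ∀ (T : Type u) [CommRing T] [Algebra A T],
      IsUnit (algebraMap A T g) → (GE (A := A) T d B M ↔ GE (A := A) T d B (M ⧸ LinearMap.range α)) := by
  haveI := liesOver_map hB s
  haveI : Module.Flat A (LocalizedModule (s.map (algebraMap A B)).primeCompl M) := by
    by_contra hc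
    have h := hM (s.map (algebraMap A B)) hc
    rw [tdg_map hB e he s, Nat.cast_lt] at h
    omega
  obtain ⟨b, β, hb, hβ⟩ := Dev4.exists_retraction s α hα
  obtain ⟨g, hg, hgb⟩ := exists_shrink hB s b hb
  refine ⟨fun Q _ _ hQ => hM Q fun hf => hQ ((flatAt_step_iff hB s Q b (fun p _ hp => hgb p fun h => hg (hp h))
    α β hβ _ (Submodule.mkQ_surjective _) (LinearMap.exact_map_mkQ_range α)).1 hf), g, hg, fun T _ _ hu => ?_⟩
  refine ge_step hB T b (fun t ht => ?_) α β hβ _ (Submodule.mkQ_surjective _) (LinearMap.exact_map_mkQ_range α) d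
  haveI : (t.comap (algebraMap A T)).IsPrime := Ideal.comap_isPrime _ t
  exact hgb _ fun h => ht.ne_top (Ideal.eq_top_of_isUnit_mem _ h hu)

omit hB

end Groth.Agent.FlatGE4

namespace Groth.Agent.FlatGE4

variable {A B : Type u} [CommRing A] [CommRing B] [Algebra A B] [Algebra.FinitePresentation A B]
  (N : Type u) [AddCommGroup N] [Module B N] [Module A N] [IsScalarTower A B N] [Module.FinitePresentation B N]
  {s : Ideal A} [s.IsPrime] (D : FlatCA.CompleteDevissage A B N s) (e : ℕ → ℕ)
  (he : ∀ i, i < D.n → FlatCA.SmoothRelDim (e i) A (D.B i)) (d : ℕ)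

/-- The invariant of the steps above the dimension. -/
def Inv (i : ℕ) : Prop :=
  Module.FinitePresentation (D.B i) (D.M i) ∧ HS s (d + 1) (D.B i) (D.M i) ∧
    ∃ g : A, g ∉ s ∧ ∀ (T : Type u) [CommRing T] [Algebra A T], IsUnit (algebraMap A T g) →
      (GE (A := A) T d B N ↔ GE (A := A) T d (D.B i) (D.M i))

include he in
theorem inv_of_lt (hflat : FlatCA.FlatInDimGE (d + 1) A B N) :
    ∀ i, i < D.n → (∀ j, j < i → d < e j) → Inv N D d i
  | 0, hi, _ => by
    haveI := D.finiteBA 0 hi
    haveI : Algebra.FinitePresentation B (D.A 0) := D.fpSA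
    haveI : Algebra.FinitePresentation A (D.A 0) := Algebra.FinitePresentation.trans A B (D.A 0)
    haveI : Algebra.Smooth A (D.B 0) := D.smooth 0 hi
    haveI : Algebra.FinitePresentation (D.B 0) (D.A 0) :=
      Algebra.FinitePresentation.of_restrict_scalars_finitePresentation A (D.B 0) (D.A 0)
    haveI : Module.FinitePresentation (D.B 0) (D.A 0) :=
      Module.FinitePresentation.of_finite_of_finitePresentation _ _
    haveI : Module.Finite B (D.A 0) := Module.Finite.of_surjective (Algebra.linearMap B (D.A 0)) D.surjSA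
    haveI : IsScalarTower A (D.A 0) (D.M 0) := IsScalarTower.of_algebraMap_smul fun a m => by
      rw [IsScalarTower.algebraMap_apply A (D.B 0) (D.A 0), algebraMap_smul, algebraMap_smul]
    haveI : IsScalarTower A B (D.M 0) := IsScalarTower.of_algebraMap_smul fun a m => by
      rw [← algebraMap_smul (D.A 0) (algebraMap A B a) m, ← IsScalarTower.algebraMap_apply, algebraMap_smul]
    haveI : Module.FinitePresentation B (D.M 0) := Module.FinitePresentation.of_equiv D.isoN
    haveI : Module.FinitePresentation (D.A 0) (D.M 0) := RG4.finitePresentation_of_finite (B := B)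
    refine ⟨Module.FinitePresentation.trans (D.B 0) (D.M 0) (D.A 0), ?_, 1, ?_, fun T _ _ _ => ?_⟩
    · exact hs_up (C := D.A 0) (hs_down (B := B) (C := D.A 0) (hs_congr D.isoN fun Q _ _ hQ => hflat s Q hQ))
    · exact fun h => ‹s.IsPrime›.ne_top ((Ideal.eq_top_iff_one _).2 h)
    · rw [ge_congr T D.isoN, ← ge_finite_iff (B := B) (C := D.A 0) T d, ge_finite_iff (B := D.B 0) (C := D.A 0) T d]
  | i + 1, hi, hlt => by
    obtain ⟨hfp, hhs, g, hg, hT⟩ := inv_of_lt hflat i (by omega) fun j hj => hlt j (by omega)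
    haveI := hfp
    haveI : Algebra.Smooth A (D.B i) := D.smooth i (by omega)
    obtain ⟨hhs', g', hg', hT'⟩ := exists_step (D.geomIrred i (by omega)) (e i) d (he i (by omega)) (hlt i (by omega))
      (D.α i) (D.fibreIso i (by omega)) hhs
    let c := D.isoCoker i hi
    haveI := D.finiteBA (i + 1) hi
    haveI : Algebra.FinitePresentation (D.B i) (D.A (i + 1)) := D.fpBA' i hi
    haveI : Algebra.FinitePresentation A (D.A (i + 1)) := Algebra.FinitePresentation.trans A (D.B i) (D.A (i + 1))
    haveI : Algebra.Smooth A (D.B (i + 1)) := D.smooth (i + 1) hi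
    haveI : Algebra.FinitePresentation (D.B (i + 1)) (D.A (i + 1)) :=
      Algebra.FinitePresentation.of_restrict_scalars_finitePresentation A (D.B (i + 1)) (D.A (i + 1))
    haveI : Module.FinitePresentation (D.B (i + 1)) (D.A (i + 1)) :=
      Module.FinitePresentation.of_finite_of_finitePresentation _ _
    haveI : Module.Finite (D.B i) (D.A (i + 1)) :=
      Module.Finite.of_surjective (Algebra.linearMap (D.B i) (D.A (i + 1))) (D.surjBA' i hi)
    haveI : IsScalarTower A (D.A (i + 1)) (D.M (i + 1)) := IsScalarTower.of_algebraMap_smul fun a m => by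
      rw [IsScalarTower.algebraMap_apply A (D.B (i + 1)) (D.A (i + 1)), algebraMap_smul, algebraMap_smul]
    haveI : IsScalarTower A (D.B i) (D.M (i + 1)) := IsScalarTower.of_algebraMap_smul fun a m => by
      rw [← algebraMap_smul (D.A (i + 1)) (algebraMap A (D.B i) a) m, ← IsScalarTower.algebraMap_apply, algebraMap_smul]
    haveI : Module.FinitePresentation (D.B i) (D.M i ⧸ LinearMap.range (D.α i)) :=
      Module.finitePresentation_of_surjective _ (Submodule.mkQ_surjective _)
        (by rw [Submodule.ker_mkQ, LinearMap.range_eq_map]; exact Module.Finite.fg_top.map _)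
    haveI : Module.FinitePresentation (D.B i) (D.M (i + 1)) := Module.FinitePresentation.of_equiv c
    haveI : Module.FinitePresentation (D.A (i + 1)) (D.M (i + 1)) := RG4.finitePresentation_of_finite (B := D.B i)
    refine ⟨Module.FinitePresentation.trans (D.B (i + 1)) (D.M (i + 1)) (D.A (i + 1)), hs_up (C := D.A (i + 1)) (hs_down (B := D.B i) (C := D.A (i + 1)) (hs_congr c hhs')), g * g',
      fun h => (‹s.IsPrime›.mem_or_mem h).elim hg hg', fun T _ _ hu => ?_⟩
    rw [map_mul, IsUnit.mul_iff] at hu
    rw [hT T hu.1, hT' T hu.2, ge_congr T c, ← ge_finite_iff (B := D.B i) (C := D.A (i + 1)) T d,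
      ge_finite_iff (B := D.B (i + 1)) (C := D.A (i + 1)) T d]

include he in
theorem exists_rep (hflat : FlatCA.FlatInDimGE (d + 1) A B N) :
    ∃ g : A, g ∉ s ∧ ∃ (Z : Scheme.{u}) (i : Z ⟶ Spec (CommRingCat.of A)),
      Mono i ∧ LocallyOfFinitePresentation i ∧ QuasiCompact i ∧ QuasiSeparated i ∧
      ∀ (T : Type u) [CommRing T] [Algebra A T], IsUnit (algebraMap A T g) →
        (GE (A := A) T d B N ↔
          ∃ k : Spec (CommRingCat.of T) ⟶ Z, k ≫ i = Spec.map (CommRingCat.ofHom (algebraMap A T))) := by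
  classical
  -- representing the condition when it is empty
  have htriv : ∀ g : A, g ∉ s → (∀ (T : Type u) [CommRing T] [Algebra A T], IsUnit (algebraMap A T g) → GE (A := A) T d B N) →
      ∃ g : A, g ∉ s ∧ ∃ (Z : Scheme.{u}) (i : Z ⟶ Spec (CommRingCat.of A)),
        Mono i ∧ LocallyOfFinitePresentation i ∧ QuasiCompact i ∧ QuasiSeparated i ∧
        ∀ (T : Type u) [CommRing T] [Algebra A T], IsUnit (algebraMap A T g) →
          (GE (A := A) T d B N ↔
            ∃ k : Spec (CommRingCat.of T) ⟶ Z, k ≫ i = Spec.map (CommRingCat.ofHom (algebraMap A T))) :=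
    fun g hg h => ⟨g, hg, _, 𝟙 _, inferInstance, inferInstance, inferInstance, inferInstance,
      fun T _ _ hu => iff_of_true (h T hu) ⟨_, Category.comp_id _⟩⟩
  by_cases hex : ∃ i, i < D.n ∧ e i ≤ d
  · obtain ⟨hk, hkd⟩ := Nat.find_spec hex
    have hmin : ∀ j, j < Nat.find hex → d < e j := fun j hj => by
      have := Nat.find_min hex hj
      push Not at this
      exact this (by omega)
    obtain ⟨hfp, -, g, hg, hT⟩ := inv_of_lt N D e he d hflat _ hk hmin
    haveI := hfp
    haveI : Algebra.Smooth A (D.B (Nat.find hex)) := D.smooth _ hk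
    rcases hkd.lt_or_eq with hlt | heq
    · exact htriv g hg fun T _ _ hu => (hT T hu).2 (ge_of_lt (D.geomIrred _ hk) _ d (he _ hk) hlt T _)
    · obtain ⟨Z, i, h1, h2, h3, h4, hZ⟩ := exists_rep_last (M := D.M (Nat.find hex)) (D.geomIrred _ hk) d (cast (congrArg (fun m => FlatCA.SmoothRelDim m A (D.B (Nat.find hex))) heq) (he _ hk))
      exact ⟨g, hg, Z, i, h1, h2, h3, h4, fun T _ _ hu => (hT T hu).trans (hZ T)⟩
  · push Not at hex
    have hn := D.pos
    obtain ⟨hfp, hhs, g, hg, hT⟩ := inv_of_lt N D e he d hflat (D.n - 1) (by omega) fun j hj => hex j (by omega)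
    haveI := hfp
    haveI : Algebra.Smooth A (D.B (D.n - 1)) := D.smooth _ (by omega)
    obtain ⟨-, g', hg', hT'⟩ := exists_step (D.geomIrred (D.n - 1) (by omega)) (e _) d (he _ (by omega))
      (hex _ (by omega)) (D.α _) (D.fibreIso _ (by omega)) hhs
    haveI : Subsingleton (D.M (D.n - 1) ⧸ LinearMap.range (D.α (D.n - 1))) := by
      rw [Submodule.Quotient.subsingleton_iff, LinearMap.range_eq_top]
      exact D.cokerLast
    refine htriv (g * g') (fun h => (‹s.IsPrime›.mem_or_mem h).elim hg hg') fun T _ _ hu => ?_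
    rw [map_mul, IsUnit.mul_iff] at hu
    exact (hT T hu.1).2 ((hT' T hu.2).2 (ge_of_subsingleton T _ _ d))

end Groth.Agent.FlatGE4
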