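import Groth.Prelude.Def_FlatCA
import Groth.Agent.Lib.RG4.Generic
import Groth.Agent.Lib.RG4.FibreSupp
import Groth.Agent.Lib.Dev4.BaseChange
import Groth.Agent.Lib.FibSub4
import Groth.Agent.Lib.GenPts4.Strata
import Groth.Agent.Lib.VarDim.Alg
import Mathlib

/-!
# Transcendence degrees at the points of the fibres of a smooth algebra
-/

set_option autoImplicit false
set_option maxSynthPendingDepth 3
set_option backward.isDefEq.respectTransparency.types false

universe u

open scoped TensorProduct
open AlgebraicGeometry CategoryTheory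

attribute [local instance] Algebra.TensorProduct.rightAlgebra

noncomputable section

namespace Groth.Agent.FlatGE4

variable {A B : Type u} [CommRing A] [CommRing B] [Algebra A B]

/-- The transcendence degree of the residue field of a prime over that of the prime below. -/
def tdg (t : Ideal A) (Q : Ideal B) [t.IsPrime] [Q.IsPrime] [h : Q.LiesOver t] : Cardinal.{u} :=
  letI : Algebra t.ResidueField Q.ResidueField :=
    (Ideal.ResidueField.mapₐ t Q (Algebra.ofId A B) h.over).toRingHom.toAlgebra
  Algebra.trdeg t.ResidueField Q.ResidueField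

theorem flatInDimGE_iff (n : ℕ) (N : Type u) [AddCommGroup N] [Module B N] [Module A N] [IsScalarTower A B N] :
    FlatCA.FlatInDimGE n A B N ↔ ∀ (t : Ideal A) (Q : Ideal B) [t.IsPrime] [Q.IsPrime] [Q.LiesOver t],
      ¬ FlatCA.FlatAt A Q N → tdg t Q < (n : Cardinal.{u}) :=
  Iff.rfl

/-- The residue field at a point of a fibre through the fibre ring. -/
theorem exists_fibreHom (t : Ideal A) (Q : Ideal B) [t.IsPrime] [Q.IsPrime] [h : Q.LiesOver t] [Algebra.FiniteType A B] :
    letI : Algebra t.ResidueField Q.ResidueField :=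
      (Ideal.ResidueField.mapₐ t Q (Algebra.ofId A B) h.over).toRingHom.toAlgebra
    ∃ ψ : t.Fiber B →ₐ[t.ResidueField] Q.ResidueField,
      (∀ b, ψ (algebraMap B (t.Fiber B) b) = algebraMap B Q.ResidueField b) ∧
      tdg t Q = (VarDim.tdeg t.ResidueField (t.Fiber B ⧸ RingHom.ker ψ) : Cardinal.{u}) := by
  letI : Algebra t.ResidueField Q.ResidueField :=
    (Ideal.ResidueField.mapₐ t Q (Algebra.ofId A B) h.over).toRingHom.toAlgebra
  haveI : IsScalarTower A t.ResidueField Q.ResidueField := IsScalarTower.of_algebraMap_eq fun x =>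
    ((Ideal.ResidueField.mapₐ t Q (Algebra.ofId A B) h.over).commutes x).symm
  let ψ : t.Fiber B →ₐ[t.ResidueField] Q.ResidueField :=
    Algebra.TensorProduct.lift (Algebra.ofId _ _) (IsScalarTower.toAlgHom A B Q.ResidueField) fun _ _ => Commute.all _ _
  have hψ : ∀ b, ψ (algebraMap B (t.Fiber B) b) = algebraMap B Q.ResidueField b := fun b => by
    show ψ ((1 : t.ResidueField) ⊗ₜ[A] b) = _
    simp [ψ]
  refine ⟨ψ, hψ, ?_⟩
  let P := RingHom.ker ψ
  haveI : P.IsPrime := RingHom.ker_isPrime _
  haveI : Algebra.FiniteType t.ResidueField (t.Fiber B) :=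
    inferInstanceAs (Algebra.FiniteType t.ResidueField (t.ResidueField ⊗[A] B))
  haveI : Algebra.FiniteType t.ResidueField (t.Fiber B ⧸ P) :=
    Algebra.FiniteType.of_surjective (Ideal.Quotient.mkₐ t.ResidueField P) Ideal.Quotient.mk_surjective
  let D := t.Fiber B ⧸ P
  let j : D →ₐ[t.ResidueField] Q.ResidueField := Ideal.Quotient.liftₐ P ψ fun a ha => ha
  letI : Algebra D Q.ResidueField := j.toRingHom.toAlgebra
  haveI : IsScalarTower t.ResidueField D Q.ResidueField :=
    IsScalarTower.of_algebraMap_eq fun x => (j.commutes x).symm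
  haveI : FaithfulSMul D Q.ResidueField := by
    rw [faithfulSMul_iff_algebraMap_injective]
    exact RingHom.kerLift_injective ψ.toRingHom
  haveI : Algebra.IsAlgebraic D Q.ResidueField := by
    refine ⟨fun z => ?_⟩
    obtain ⟨a, c, -, rfl⟩ := IsFractionRing.div_surjective (A := B ⧸ Q) z
    obtain ⟨a, rfl⟩ := Ideal.Quotient.mk_surjective a
    obtain ⟨c, rfl⟩ := Ideal.Quotient.mk_surjective c
    have hj : ∀ b : B, algebraMap (B ⧸ Q) Q.ResidueField (Ideal.Quotient.mk Q b) =
        algebraMap D Q.ResidueField (Ideal.Quotient.mk P (algebraMap B (t.Fiber B) b)) := fun b => (hψ b).symm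
    rw [hj, hj, div_eq_mul_inv]
    exact (isAlgebraic_algebraMap _).mul (isAlgebraic_algebraMap _).inv
  show Algebra.trdeg t.ResidueField Q.ResidueField = _
  rw [← VarDim.trdeg_eq_tdeg t.ResidueField D, ← trdeg_add_eq t.ResidueField D (A := Q.ResidueField),
    trdeg_eq_zero (R := D) (A := Q.ResidueField), add_zero]

/-- Above the dimension of the fibre there is no point. -/
theorem tdg_le [Algebra.FiniteType A B] (e : ℕ) (he : FlatCA.SmoothRelDim e A B) (t : Ideal A) (Q : Ideal B)
    [t.IsPrime] [Q.IsPrime] [h : Q.LiesOver t] : tdg t Q ≤ (e : Cardinal.{u}) := by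
  obtain ⟨ψ, -, hψ⟩ := exists_fibreHom t Q
  letI : Algebra t.ResidueField Q.ResidueField :=
    (Ideal.ResidueField.mapₐ t Q (Algebra.ofId A B) h.over).toRingHom.toAlgebra
  haveI : (RingHom.ker ψ).IsPrime := RingHom.ker_isPrime _
  haveI : Algebra.FiniteType t.ResidueField (t.Fiber B) :=
    inferInstanceAs (Algebra.FiniteType t.ResidueField (t.ResidueField ⊗[A] B))
  haveI : Algebra.FiniteType t.ResidueField (t.Fiber B ⧸ RingHom.ker ψ) :=
    Algebra.FiniteType.of_surjective (Ideal.Quotient.mkₐ t.ResidueField _) Ideal.Quotient.mk_surjective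
  have h1 := (ringKrullDim_le_of_surjective _ (Ideal.Quotient.mk_surjective (I := RingHom.ker ψ))).trans
    (RG4.ringKrullDim_fiber_le e he t)
  rw [VarDim.ringKrullDim_eq_tdeg t.ResidueField] at h1
  rw [hψ, Nat.cast_le]
  exact_mod_cast h1

variable [Algebra.Smooth A B] (hB : FlatCA.GeomIrredFibres A B)
include hB

/-- The extension of a prime lies over it. -/
theorem liesOver_map (t : Ideal A) [t.IsPrime] :
    haveI := Dev4.isPrime_map hB t
    (t.map (algebraMap A B)).LiesOver t := by
  haveI := Dev4.isPrime_map hB t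
  haveI := RG4.isDomain_fiber_of_smooth hB t
  exact RG4.liesOver_of_nonempty t inferInstance

/-- The dimension of a fibre. -/
theorem ringKrullDim_fiber_eq (d : ℕ) (hd : FlatCA.SmoothRelDim d A B) (t : Ideal A) [t.IsPrime] :
    ringKrullDim (t.Fiber B) = (d : WithBot ℕ∞) := by
  let g := Spec.map (CommRingCat.ofHom (algebraMap t.ResidueField (t.Fiber B)))
  haveI := smoothOfRelativeDimension_isStableUnderBaseChange d
  haveI : SmoothOfRelativeDimension d g :=
    MorphismProperty.of_isPullback (P := @SmoothOfRelativeDimension d)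
      (isPullback_SpecMap_of_isPushout _ _ _ _ (CommRingCat.isPushout_tensorProduct A t.ResidueField B).flip) hd
  haveI : Smooth g := SmoothOfRelativeDimension.smooth d g
  haveI : GeometricallyIrreducible g := RG4.geomIrredFibres_baseChange t.ResidueField hB
  haveI := RG4.isDomain_fiber_of_smooth hB t
  let η : Spec (CommRingCat.of (t.Fiber B)) := (⟨⊥, Ideal.isPrime_bot⟩ : PrimeSpectrum (t.Fiber B))
  have hη : FlatFun.IsGenericPtOfFibre g η := fun x _ =>
    (PrimeSpectrum.le_iff_specializes (⟨⊥, Ideal.isPrime_bot⟩ : PrimeSpectrum (t.Fiber B)) x).1 bot_le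
  have h1 := FibSub4.dim_fiber_eq_rd g (w := η) hη
  rw [GenPts4.rd_generic g d hη] at h1
  haveI : Subsingleton (Spec (CommRingCat.of t.ResidueField)) :=
    inferInstanceAs (Subsingleton (PrimeSpectrum t.ResidueField))
  have hu : g ⁻¹' {g η} = Set.univ := Set.eq_univ_of_forall fun x => Subsingleton.elim (g x) (g η)
  have h2 := (((g.fiberHomeo (g η)).trans (Homeomorph.setCongr hu)).trans
    (Homeomorph.Set.univ _)).isHomeomorph.topologicalKrullDim_eq
  rw [← PrimeSpectrum.topologicalKrullDim_eq_ringKrullDim, ← h1]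
  exact h2.symm

/-- The transcendence degree at the generic point of a fibre. -/
theorem tdg_map (d : ℕ) (hd : FlatCA.SmoothRelDim d A B) (t : Ideal A) [t.IsPrime] :
    haveI := Dev4.isPrime_map hB t
    haveI := liesOver_map hB t
    tdg t (t.map (algebraMap A B)) = (d : Cardinal.{u}) := by
  haveI := Dev4.isPrime_map hB t
  haveI h := liesOver_map hB t
  set Q := t.map (algebraMap A B) with hQ
  obtain ⟨ψ, hψb, hψ⟩ := exists_fibreHom t Q
  letI : Algebra t.ResidueField Q.ResidueField :=
    (Ideal.ResidueField.mapₐ t Q (Algebra.ofId A B) h.over).toRingHom.toAlgebra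
  have hker : RingHom.ker ψ = ⊥ := by
    rw [eq_bot_iff]
    intro x hx
    obtain ⟨r, hr, b, hb⟩ := Ideal.Fiber.exists_smul_eq_one_tmul t x
    have hb' : algebraMap B Q.ResidueField b = 0 := by
      rw [← hψb b, show algebraMap B (t.Fiber B) b = (1 : t.ResidueField) ⊗ₜ[A] b from rfl, ← hb,
        ← algebraMap_smul t.ResidueField r x, map_smul, RingHom.mem_ker.1 hx, smul_zero]
    rw [Ideal.algebraMap_residueField_eq_zero, hQ, ← Dev4.map_eq_comap_bot t, Ideal.mem_comap, Submodule.mem_bot] at hb'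
    rw [Submodule.mem_bot]
    have hr0 : IsUnit (algebraMap A t.ResidueField r) :=
      isUnit_iff_ne_zero.2 fun h0 => hr (Ideal.algebraMap_residueField_eq_zero.1 h0)
    refine hr0.smul_eq_zero.1 ?_
    rw [algebraMap_smul, hb]; exact hb'
  haveI := RG4.isDomain_fiber_of_smooth hB t
  haveI : (RingHom.ker ψ).IsPrime := RingHom.ker_isPrime _
  haveI : Algebra.FiniteType t.ResidueField (t.Fiber B) :=
    inferInstanceAs (Algebra.FiniteType t.ResidueField (t.ResidueField ⊗[A] B))
  haveI : Algebra.FiniteType t.ResidueField (t.Fiber B ⧸ RingHom.ker ψ) :=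
    Algebra.FiniteType.of_surjective (Ideal.Quotient.mkₐ t.ResidueField _) Ideal.Quotient.mk_surjective
  have h1 : ringKrullDim (t.Fiber B ⧸ RingHom.ker ψ) = (d : WithBot ℕ∞) := by
    rw [hker]
    exact (ringKrullDim_eq_of_ringEquiv (RingEquiv.quotientBot _)).trans (ringKrullDim_fiber_eq hB d hd t)
  rw [VarDim.ringKrullDim_eq_tdeg t.ResidueField] at h1
  rw [hψ]
  exact_mod_cast h1

/-- Away from the generic point the transcendence degree drops. -/
theorem tdg_lt_of_ne (d : ℕ) (hd : FlatCA.SmoothRelDim d A B) (t : Ideal A) (Q : Ideal B) [t.IsPrime] [Q.IsPrime]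
    [h : Q.LiesOver t] (hne : Q ≠ t.map (algebraMap A B)) : tdg t Q < (d : Cardinal.{u}) := by
  obtain ⟨ψ, hψb, hψ⟩ := exists_fibreHom t Q
  letI : Algebra t.ResidueField Q.ResidueField :=
    (Ideal.ResidueField.mapₐ t Q (Algebra.ofId A B) h.over).toRingHom.toAlgebra
  haveI := RG4.isDomain_fiber_of_smooth hB t
  obtain ⟨b, hbQ, hb⟩ : ∃ b ∈ Q, b ∉ t.map (algebraMap A B) := by
    by_contra hc
    push Not at hc
    exact hne (le_antisymm hc (Ideal.map_le_iff_le_comap.2 h.over.le))
  let x := algebraMap B (t.Fiber B) b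
  have hx : x ∈ RingHom.ker ψ := by
    rw [RingHom.mem_ker, hψb, Ideal.algebraMap_residueField_eq_zero]; exact hbQ
  have hx0 : x ≠ 0 := fun h0 => hb (by rw [← Dev4.map_eq_comap_bot t]; exact h0)
  haveI : (RingHom.ker ψ).IsPrime := RingHom.ker_isPrime _
  haveI : Algebra.FiniteType t.ResidueField (t.Fiber B) :=
    inferInstanceAs (Algebra.FiniteType t.ResidueField (t.ResidueField ⊗[A] B))
  haveI : Algebra.FiniteType t.ResidueField (t.Fiber B ⧸ RingHom.ker ψ) :=
    Algebra.FiniteType.of_surjective (Ideal.Quotient.mkₐ t.ResidueField _) Ideal.Quotient.mk_surjective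
  have h1 := ringKrullDim_quotient_succ_le_of_nonZeroDivisor (mem_nonZeroDivisors_of_ne_zero hx0)
  have h2 : ringKrullDim (t.Fiber B ⧸ RingHom.ker ψ) ≤ ringKrullDim (t.Fiber B ⧸ Ideal.span {x}) :=
    ringKrullDim_le_of_surjective (Ideal.Quotient.factor ((Ideal.span_singleton_le_iff_mem _).2 hx))
      (Ideal.Quotient.factor_surjective _)
  have h3 := ((add_le_add_left h2 1).trans h1).trans (RG4.ringKrullDim_fiber_le d hd t)
  rw [VarDim.ringKrullDim_eq_tdeg t.ResidueField] at h3
  rw [hψ, Nat.cast_lt]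
  have h4 : VarDim.tdeg t.ResidueField (t.Fiber B ⧸ RingHom.ker ψ) + 1 ≤ d := by exact_mod_cast h3
  omega

end Groth.Agent.FlatGE4
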