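import Groth.Agent.Lib.FlatGE4.Transfer
import Groth.Agent.Lib.Dev4.StepLemma
import Groth.Agent.Lib.Dev4.Point

/-!
# A step of a dévissage above the dimension
-/

set_option autoImplicit false
set_option maxSynthPendingDepth 3
set_option backward.isDefEq.respectTransparency.types false

universe u

open scoped TensorProduct

attribute [local instance] Algebra.TensorProduct.rightAlgebra

noncomputable section

namespace Groth.Agent.FlatGE4

variable {A B : Type u} [CommRing A] [CommRing B] [Algebra A B] [Algebra.Smooth A B]

/-- A scalar off the generic points of the fibres below a point multiplies universally injectively at it. -/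
theorem univInj_smul (hB : FlatCA.GeomIrredFibres A B) (t : Ideal A) (P : Ideal B) [t.IsPrime] [P.IsPrime]
    [hP : P.LiesOver t] (b : B) (hb : ∀ (p : Ideal A) [p.IsPrime], p ≤ t → b ∉ p.map (algebraMap A B)) (r : ℕ) :
    FlatCA.UnivInj A
      ((LocalizedModule.map P.primeCompl (b • (LinearMap.id : (Fin r → B) →ₗ[B] Fin r → B))).restrictScalars A) := by
  let f := b • (LinearMap.id : (Fin r → B) →ₗ[B] Fin r → B)
  let F := LocalizedModule P.primeCompl (Fin r → B)
  haveI : Module.Flat A (Fin r → B) :=
    Module.Flat.of_linearEquiv (DFinsupp.linearEquivFunOnFintype (R := A) (M := fun _ : Fin r => B)).symm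
  haveI : Module.Flat A F :=
    RG4.flat_of_isLocalizedModule P.primeCompl (LocalizedModule.mkLinearMap P.primeCompl (Fin r → B))
  haveI : Module.Finite (Localization P.primeCompl) F :=
    Module.Finite.of_isLocalizedModule P.primeCompl (LocalizedModule.mkLinearMap P.primeCompl (Fin r → B))
  intro Q _ _
  refine FlatFibInj.injective_lTensor_of_fibres (B := B) (L := Localization P.primeCompl) P.primeCompl _ (fun p _ => ?_) Q
  by_cases hp : p ≤ t
  · refine Dev4.injective_lTensor_localizedModule_map P.primeCompl p.ResidueField (f := f) ?_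
    haveI := RG4.isDomain_fiber_of_smooth hB p
    have hb0 : algebraMap B (p.Fiber B) b ≠ 0 := fun h0 => hb p hp (by
      rw [← Dev4.map_eq_comap_bot p]; exact h0)
    let π := TensorProduct.piRight A p.ResidueField p.ResidueField (fun _ : Fin r => B)
    have key : ∀ w, π ((f.restrictScalars A).lTensor p.ResidueField w) =
        fun i => algebraMap B (p.Fiber B) b * π w i := fun w => by
      induction w using TensorProduct.induction_on with
      | zero =>
        simp only [map_zero, Pi.zero_apply, mul_zero]
        rfl
      | add x y hx hy =>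
        simp only [map_add, hx, hy]
        funext i
        simp only [Pi.add_apply]
        exact (mul_add (R := p.Fiber B) _ _ _).symm
      | tmul k v =>
        funext i
        rw [LinearMap.lTensor_tmul, TensorProduct.piRight_apply, TensorProduct.piRightHom_tmul,
          TensorProduct.piRight_apply, TensorProduct.piRightHom_tmul]
        show k ⊗ₜ[A] (b * v i) = ((1 : p.ResidueField) ⊗ₜ[A] b) * (k ⊗ₜ[A] v i)
        rw [Algebra.TensorProduct.tmul_mul_tmul, one_mul]
    intro w w' hw
    refine π.injective (funext fun i => mul_left_cancel₀ hb0 ?_)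
    have := congrFun ((key w).symm.trans ((congrArg π hw).trans (key w'))) i
    exact this
  · obtain ⟨a, hap, hat⟩ := SetLike.not_le_iff_exists.1 hp
    haveI : Subsingleton (p.ResidueField ⊗[A] F) := by
      refine subsingleton_of_forall_eq 0 fun w => ?_
      induction w using TensorProduct.induction_on with
      | zero => rfl
      | add x y hx hy => rw [hx, hy, add_zero]
      | tmul k x =>
        have ha : algebraMap A B a ∈ P.primeCompl := fun h => hat (hP.over.ge h)
        obtain ⟨z, hz⟩ := ((Module.End.isUnit_iff _).1 (IsLocalizedModule.map_units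
          (LocalizedModule.mkLinearMap P.primeCompl (Fin r → B)) ⟨_, ha⟩)).2 x
        have hz' : a • z = x := by
          rw [← hz]
          show a • z = algebraMap A B a • z
          rw [algebraMap_smul]
        rw [← hz', ← TensorProduct.smul_tmul, Algebra.smul_def,
          Ideal.algebraMap_residueField_eq_zero.2 hap, zero_mul, TensorProduct.zero_tmul]
    exact Function.injective_of_subsingleton _

variable {M X : Type u} [AddCommGroup M] [Module B M] [Module A M] [IsScalarTower A B M] [AddCommGroup X] [Module B X]
  [Module A X] [IsScalarTower A B X] {r : ℕ}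

/-- A step with a retraction up to a good scalar does not change flatness at a point. -/
theorem flatAt_step_iff (hB : FlatCA.GeomIrredFibres A B) (t : Ideal A) (P : Ideal B) [t.IsPrime] [P.IsPrime]
    [P.LiesOver t] (b : B) (hb : ∀ (p : Ideal A) [p.IsPrime], p ≤ t → b ∉ p.map (algebraMap A B))
    (α : (Fin r → B) →ₗ[B] M) (β : M →ₗ[B] (Fin r → B)) (hβ : ∀ x, β (α x) = b • x)
    (q : M →ₗ[B] X) (hq : Function.Surjective q) (hαq : Function.Exact α q) :
    FlatCA.FlatAt A P M ↔ FlatCA.FlatAt A P X := by
  have hu : FlatCA.UnivInj A ((LocalizedModule.map P.primeCompl α).restrictScalars A) := by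
    intro Q _ _
    have h := univInj_smul hB t P b hb r Q
    rw [show b • (LinearMap.id : (Fin r → B) →ₗ[B] Fin r → B) = β ∘ₗ α from
      LinearMap.ext fun x => (hβ x).symm] at h
    refine Function.Injective.of_comp (f := ((LocalizedModule.map P.primeCompl β).restrictScalars A).lTensor Q) ?_
    rw [← LinearMap.coe_comp, ← LinearMap.lTensor_comp]
    have hc : ((LocalizedModule.map P.primeCompl β).restrictScalars A) ∘ₗ
        ((LocalizedModule.map P.primeCompl α).restrictScalars A) =
        (LocalizedModule.map P.primeCompl (β ∘ₗ α)).restrictScalars A := by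
      refine LinearMap.ext fun (x : LocalizedModule P.primeCompl (Fin r → B)) => ?_
      induction x using LocalizedModule.induction_on with
      | h m s => simp [LocalizedModule.map_mk]
    rw [hc]
    exact h
  let f' := (LocalizedModule.map P.primeCompl α).restrictScalars A
  let g' := (LocalizedModule.map P.primeCompl q).restrictScalars A
  have hg' : Function.Surjective g' := LocalizedModule.map_surjective P.primeCompl q hq
  have hex : Function.Exact f' g' := LocalizedModule.map_exact P.primeCompl α q hαq
  haveI : Module.Flat A (Fin r → B) :=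
    Module.Flat.of_linearEquiv (DFinsupp.linearEquivFunOnFintype (R := A) (M := fun _ : Fin r => B)).symm
  haveI : Module.Flat A (LocalizedModule P.primeCompl (Fin r → B)) :=
    RG4.flat_of_isLocalizedModule P.primeCompl (LocalizedModule.mkLinearMap P.primeCompl (Fin r → B))
  constructor
  · intro h
    haveI : Module.Flat A (LocalizedModule P.primeCompl M) := h
    exact RG4.flat_of_univInj_exact hg' hex hu
  · intro h
    haveI : Module.Flat A (LocalizedModule P.primeCompl X) := h
    refine RG4.flat_of_exact hg' hex fun x y hxy => ?_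
    have h1 := @hu A _ _ ((TensorProduct.lid A _).symm x) ((TensorProduct.lid A _).symm y) (by
      simp only [TensorProduct.lid_symm_apply, LinearMap.lTensor_tmul]
      exact congrArg ((1 : A) ⊗ₜ[A] ·) hxy)
    exact (TensorProduct.lid A _).symm.injective h1

/-- Shrinking the base so that a scalar misses the generic point of every fibre. -/
theorem exists_shrink (hB : FlatCA.GeomIrredFibres A B) (s : Ideal A) [s.IsPrime] (b : B)
    (hb : b ∉ s.map (algebraMap A B)) :
    ∃ g : A, g ∉ s ∧ ∀ (t : Ideal A) [t.IsPrime], g ∉ t → b ∉ t.map (algebraMap A B) := by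
  haveI := Dev4.isPrime_map hB s
  haveI := liesOver_map hB s
  let O := PrimeSpectrum.comap (algebraMap A B) '' (PrimeSpectrum.basicOpen b : Set (PrimeSpectrum B))
  have hO : IsOpen O :=
    PrimeSpectrum.isOpenMap_comap_of_hasGoingDown_of_finitePresentation _ (PrimeSpectrum.basicOpen b).isOpen
  have hs : (⟨s, ‹_›⟩ : PrimeSpectrum A) ∈ O := ⟨⟨s.map (algebraMap A B), inferInstance⟩, hb,
    PrimeSpectrum.ext (Ideal.LiesOver.over (P := s.map (algebraMap A B)) (p := s)).symm⟩
  obtain ⟨_, ⟨g, rfl⟩, hg, hgO⟩ := PrimeSpectrum.isTopologicalBasis_basic_opens.exists_subset_of_mem_open hs hO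
  refine ⟨g, hg, fun t _ ht hbt => ?_⟩
  obtain ⟨P, hP, hPt⟩ := hgO (show (⟨t, ‹_›⟩ : PrimeSpectrum A) ∈ PrimeSpectrum.basicOpen g from ht)
  exact hP ((Ideal.map_le_iff_le_comap.2 (congrArg PrimeSpectrum.asIdeal hPt).ge) hbt)

/-- The step for the base changes. -/
theorem ge_step (hB : FlatCA.GeomIrredFibres A B) (T : Type u) [CommRing T] [Algebra A T] (b : B)
    (hb : ∀ (t : Ideal T) [t.IsPrime], b ∉ (t.comap (algebraMap A T)).map (algebraMap A B))
    (α : (Fin r → B) →ₗ[B] M) (β : M →ₗ[B] (Fin r → B)) (hβ : ∀ x, β (α x) = b • x)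
    (q : M →ₗ[B] X) (hq : Function.Surjective q) (hαq : Function.Exact α q) (n : ℕ) :
    GE (A := A) T n B M ↔ GE (A := A) T n B X := by
  let B' := T ⊗[A] B
  haveI : Algebra.Smooth T B' := inferInstanceAs (Algebra.Smooth T (T ⊗[A] B))
  have hB' : FlatCA.GeomIrredFibres T B' := RG4.geomIrredFibres_baseChange T hB
  let e := TensorProduct.piScalarRight B B' B' (Fin r)
  let α' : (Fin r → B') →ₗ[B'] B' ⊗[B] M := α.baseChange B' ∘ₗ e.symm.toLinearMap
  let β' : B' ⊗[B] M →ₗ[B'] (Fin r → B') := e.toLinearMap ∘ₗ β.baseChange B'
  let b' := algebraMap B B' b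
  have hz : ∀ z, β.baseChange B' (α.baseChange B' z) = b' • z := fun z => by
    induction z using TensorProduct.induction_on with
    | zero => simp
    | add x y hx hy => simp only [map_add, hx, hy, smul_add]
    | tmul x m =>
      rw [LinearMap.baseChange_tmul, LinearMap.baseChange_tmul, hβ, TensorProduct.tmul_smul, algebraMap_smul]
  have hβ' : ∀ x, β' (α' x) = b' • x := fun x => by
    show e (β.baseChange B' (α.baseChange B' (e.symm x))) = _
    rw [hz, map_smul, LinearEquiv.apply_symm_apply]
  have hb' : ∀ (t : Ideal T) [t.IsPrime], b' ∉ t.map (algebraMap T B') := fun t _ h => hb t (by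
    haveI : (t.comap (algebraMap A T)).IsPrime := Ideal.comap_isPrime _ t
    haveI : t.LiesOver (t.comap (algebraMap A T)) := ⟨rfl⟩
    rw [Dev4.map_comap_baseChange (D := B) (t.comap (algebraMap A T)) T t]
    exact h)
  have hq' : Function.Surjective (q.baseChange B') := LinearMap.lTensor_surjective B' hq
  have hex : Function.Exact α' (q.baseChange B') := by
    have h := lTensor_exact B' hαq hq
    intro y
    refine (h y).trans ⟨?_, ?_⟩
    · rintro ⟨w, rfl⟩
      exact ⟨e w, by show α.baseChange B' (e.symm (e w)) = _; rw [e.symm_apply_apply]; rfl⟩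
    · rintro ⟨v, rfl⟩
      exact ⟨e.symm v, rfl⟩
  rw [GE, GE, flatInDimGE_iff, flatInDimGE_iff]
  have key : ∀ (t : Ideal T) (P : Ideal B') [t.IsPrime] [P.IsPrime] [P.LiesOver t],
      FlatCA.FlatAt T P (B' ⊗[B] M) ↔ FlatCA.FlatAt T P (B' ⊗[B] X) := fun t P _ _ _ =>
    flatAt_step_iff hB' t P b' (fun p _ _ => hb' p) α' β' hβ' _ hq' hex
  exact ⟨fun h t P _ _ _ hP => h t P fun hf => hP ((key t P).1 hf),
    fun h t P _ _ _ hP => h t P fun hf => hP ((key t P).2 hf)⟩

end Groth.Agent.FlatGE4
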