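import Groth.Agent.Lib.FlatGE4.Dim
import Groth.Agent.Lib.Dev4.CdaFlat
import Groth.Agent.Lib.RG4.Step

/-!
# Flatness in dimensions at least `n` along finite maps
-/

set_option autoImplicit false
set_option maxSynthPendingDepth 3
set_option backward.isDefEq.respectTransparency.types false

universe u

open scoped TensorProduct

attribute [local instance] Algebra.TensorProduct.rightAlgebra

noncomputable section

namespace Groth.Agent.FlatGE4

variable {R B C : Type u} [CommRing R] [CommRing B] [CommRing C] [Algebra R B] [Algebra R C] [Algebra B C]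
  [IsScalarTower R B C]

theorem flatInDimGE_congr {n : ℕ} {M M' : Type u} [AddCommGroup M] [Module B M] [Module R M] [IsScalarTower R B M]
    [AddCommGroup M'] [Module B M'] [Module R M'] [IsScalarTower R B M'] (e : M ≃ₗ[B] M') :
    FlatCA.FlatInDimGE n R B M ↔ FlatCA.FlatInDimGE n R B M' :=
  ⟨fun h t Q _ _ _ hQ => h t Q fun hf => hQ (RG4.flatAt_congr Q e hf),
    fun h t Q _ _ _ hQ => h t Q fun hf => hQ (RG4.flatAt_congr Q e.symm hf)⟩

theorem tdg_eq_of_integral [Algebra.IsIntegral B C] (t : Ideal R) (P : Ideal B) (Q : Ideal C) [t.IsPrime] [P.IsPrime]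
    [Q.IsPrime] [hP : P.LiesOver t] [hQP : Q.LiesOver P] [hQ : Q.LiesOver t] : tdg t Q = tdg t P := by
  letI : Algebra t.ResidueField P.ResidueField :=
    (Ideal.ResidueField.mapₐ t P (Algebra.ofId R B) hP.over).toRingHom.toAlgebra
  letI : Algebra t.ResidueField Q.ResidueField :=
    (Ideal.ResidueField.mapₐ t Q (Algebra.ofId R C) hQ.over).toRingHom.toAlgebra
  let j : P.ResidueField →ₐ[B] Q.ResidueField := Ideal.ResidueField.mapₐ P Q (Algebra.ofId B C) hQP.over
  letI : Algebra P.ResidueField Q.ResidueField := j.toRingHom.toAlgebra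
  have hh : (algebraMap P.ResidueField Q.ResidueField).comp (algebraMap t.ResidueField P.ResidueField) =
      algebraMap t.ResidueField Q.ResidueField := Ideal.ResidueField.ringHom_ext (RingHom.ext fun r => by
    show j (Ideal.ResidueField.mapₐ t P (Algebra.ofId R B) hP.over (algebraMap R t.ResidueField r)) =
      Ideal.ResidueField.mapₐ t Q (Algebra.ofId R C) hQ.over (algebraMap R t.ResidueField r)
    rw [AlgHom.commutes, AlgHom.commutes, IsScalarTower.algebraMap_apply R B P.ResidueField, AlgHom.commutes,
      IsScalarTower.algebraMap_apply R C Q.ResidueField, IsScalarTower.algebraMap_apply B C Q.ResidueField,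
      IsScalarTower.algebraMap_apply R B C])
  haveI : IsScalarTower t.ResidueField P.ResidueField Q.ResidueField := IsScalarTower.of_algebraMap_eq' hh.symm
  haveI : IsScalarTower B P.ResidueField Q.ResidueField :=
    IsScalarTower.of_algebraMap_eq fun x => (j.commutes x).symm
  haveI : Algebra.IsAlgebraic P.ResidueField Q.ResidueField := by
    refine ⟨fun z => ?_⟩
    obtain ⟨a, c, -, rfl⟩ := IsFractionRing.div_surjective (A := C ⧸ Q) z
    obtain ⟨a, rfl⟩ := Ideal.Quotient.mk_surjective a
    obtain ⟨c, rfl⟩ := Ideal.Quotient.mk_surjective c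
    have hi : ∀ x : C, IsAlgebraic P.ResidueField (algebraMap (C ⧸ Q) Q.ResidueField (Ideal.Quotient.mk Q x)) := fun x =>
      (((Algebra.IsIntegral.isIntegral (R := B) x).map (IsScalarTower.toAlgHom B C Q.ResidueField)).tower_top).isAlgebraic
    rw [div_eq_mul_inv]
    exact (hi a).mul (hi c).inv
  show Algebra.trdeg t.ResidueField Q.ResidueField = Algebra.trdeg t.ResidueField P.ResidueField
  rw [← trdeg_add_eq t.ResidueField P.ResidueField (A := Q.ResidueField),
    trdeg_eq_zero (R := P.ResidueField) (A := Q.ResidueField), add_zero]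

variable {M : Type u} [AddCommGroup M] [Module C M] [Module B M] [IsScalarTower B C M] [Module R M]
  [IsScalarTower R B M] [IsScalarTower R C M]

theorem flatAt_of_over (P : Ideal B) (Q : Ideal C) [P.IsPrime] [Q.IsPrime] [hQP : Q.LiesOver P]
    (h : FlatCA.FlatAt R P M) : FlatCA.FlatAt R Q M := by
  let T := Algebra.algebraMapSubmonoid C P.primeCompl
  haveI : IsLocalizedModule P.primeCompl ((LocalizedModule.mkLinearMap T M).restrictScalars B) :=
    IsLocalizedModule.restrictScalars P.primeCompl (LocalizedModule.mkLinearMap T M)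
  haveI : Module.Flat R (LocalizedModule P.primeCompl M) := h
  haveI : Module.Flat R (LocalizedModule T M) := Module.Flat.of_linearEquiv
    ((IsLocalizedModule.iso P.primeCompl ((LocalizedModule.mkLinearMap T M).restrictScalars B)).restrictScalars R).symm
  have hle : T ≤ Q.primeCompl := by
    rintro _ ⟨b, hb, rfl⟩ hbQ
    exact hb (hQP.over.ge hbQ)
  exact RG4.flat_of_isLocalizedModule Q.primeCompl
    (IsLocalizedModule.liftOfLE T Q.primeCompl hle (LocalizedModule.mkLinearMap T M)
      (LocalizedModule.mkLinearMap Q.primeCompl M))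

/-- A finite map does not change the condition. -/
theorem flatInDimGE_finite_iff [Module.Finite B C] (n : ℕ) :
    FlatCA.FlatInDimGE n R C M ↔ FlatCA.FlatInDimGE n R B M := by
  rw [flatInDimGE_iff, flatInDimGE_iff]
  refine ⟨fun h t P _ _ _ hP => ?_, fun h t Q _ _ _ hQ => ?_⟩
  · obtain ⟨Q, _, hQP, hQ⟩ : ∃ (Q : Ideal C) (_ : Q.IsPrime), Q.LiesOver P ∧ ¬ FlatCA.FlatAt R Q M := by
      by_contra hc
      push Not at hc
      exact hP (Dev4.flatAt_of_forall_over P fun Q _ hQ => hc Q inferInstance hQ)
    haveI : Q.LiesOver t := Ideal.LiesOver.trans Q P t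
    rw [← tdg_eq_of_integral t P Q]
    exact h t Q hQ
  · let P := Q.comap (algebraMap B C)
    haveI : P.IsPrime := Ideal.comap_isPrime _ Q
    haveI : Q.LiesOver P := ⟨rfl⟩
    haveI : P.LiesOver t := ⟨by
      rw [Ideal.under_def, Ideal.comap_comap, ← IsScalarTower.algebraMap_eq]; exact Ideal.LiesOver.over (P := Q)⟩
    rw [tdg_eq_of_integral t P Q]
    exact h t P fun hf => hQ (flatAt_of_over P Q hf)

end Groth.Agent.FlatGE4

namespace Groth.Agent.FlatGE4

variable {A B C : Type u} [CommRing A] [CommRing B] [CommRing C] [Algebra A B] [Algebra A C] [Algebra B C]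
  [IsScalarTower A B C] (T : Type u) [CommRing T] [Algebra A T]

/-- Flatness in dimensions at least `n` of the base change to `T`. -/
abbrev GE (n : ℕ) (B : Type u) [CommRing B] [Algebra A B] (M : Type u) [AddCommGroup M] [Module B M] : Prop :=
  FlatCA.FlatInDimGE n T (T ⊗[A] B) ((T ⊗[A] B) ⊗[B] M)

theorem ge_congr {n : ℕ} {M M' : Type u} [AddCommGroup M] [Module B M] [AddCommGroup M'] [Module B M']
    (e : M ≃ₗ[B] M') : GE (A := A) T n B M ↔ GE (A := A) T n B M' :=
  flatInDimGE_congr (LinearEquiv.baseChange B (T ⊗[A] B) M M' e)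

variable {M : Type u} [AddCommGroup M] [Module C M] [Module B M] [IsScalarTower B C M]

theorem ge_finite_iff [Module.Finite B C] (n : ℕ) : GE (A := A) T n C M ↔ GE (A := A) T n B M := by
  letI : Module A M := Module.compHom M (algebraMap A B)
  haveI : IsScalarTower A B M := IsScalarTower.of_algebraMap_smul fun _ _ => rfl
  haveI : IsScalarTower A C M := IsScalarTower.of_algebraMap_smul fun a m => by
    rw [IsScalarTower.algebraMap_apply A B C, algebraMap_smul, algebraMap_smul]
  let B' := T ⊗[A] B
  let C' := T ⊗[A] C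
  let ι : B' →ₐ[T] C' := Algebra.TensorProduct.map (AlgHom.id T T) (IsScalarTower.toAlgHom A B C)
  letI : Algebra B' C' := ι.toRingHom.toAlgebra
  haveI : IsScalarTower T B' C' := IsScalarTower.of_algebraMap_eq fun x => (ι.commutes x).symm
  haveI : Module.Finite B' C' := by
    classical
    obtain ⟨s, hs⟩ := (inferInstance : Module.Finite B C).fg_top
    refine ⟨⟨s.image fun c => (1 : T) ⊗ₜ[A] c, eq_top_iff.2 fun w hw => ?_⟩⟩
    clear hw
    induction w using TensorProduct.induction_on with
    | zero => exact zero_mem _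
    | add x y hx hy => exact add_mem hx hy
    | tmul k c =>
      have hc : c ∈ Submodule.span B (s : Set C) := hs ▸ trivial
      induction hc using Submodule.span_induction with
      | mem x hx =>
        rw [show (k ⊗ₜ[A] x : C') = (k ⊗ₜ[A] (1 : B) : B') • ((1 : T) ⊗ₜ[A] x) by
          rw [Algebra.smul_def]
          show _ = ι (k ⊗ₜ 1) * _
          rw [Algebra.TensorProduct.map_tmul, Algebra.TensorProduct.tmul_mul_tmul]
          simp]
        exact Submodule.smul_mem _ _ (Submodule.subset_span (Finset.mem_coe.2 (Finset.mem_image_of_mem _ hx)))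
      | zero => rw [TensorProduct.tmul_zero]; exact zero_mem _
      | add x y _ _ hx hy => rw [TensorProduct.tmul_add]; exact add_mem hx hy
      | smul b x _ hx =>
        rw [show (k ⊗ₜ[A] (b • x) : C') = ((1 : T) ⊗ₜ[A] b : B') • (k ⊗ₜ[A] x) by
          rw [Algebra.smul_def b x]
          conv_rhs => rw [Algebra.smul_def]
          show _ = ι (1 ⊗ₜ b) * _
          rw [Algebra.TensorProduct.map_tmul, Algebra.TensorProduct.tmul_mul_tmul]
          simp]
        exact Submodule.smul_mem _ _ hx
  haveI : IsScalarTower B' C' (C' ⊗[C] M) := TensorProduct.isScalarTower_left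
  haveI : IsScalarTower T B' (C' ⊗[C] M) := TensorProduct.isScalarTower_left
  refine (flatInDimGE_finite_iff (R := T) (B := B') (C := C') (M := C' ⊗[C] M) n).trans ?_
  have hι : ∀ b : B, ι ((1 : T) ⊗ₜ[A] b) = algebraMap C C' (algebraMap B C b) := fun b => by
    show _ = (1 : T) ⊗ₜ[A] algebraMap B C b
    rw [Algebra.TensorProduct.map_tmul]
    rfl
  letI : Algebra B C' := ((algebraMap C C').comp (algebraMap B C)).toAlgebra
  haveI : IsScalarTower B B' C' := IsScalarTower.of_algebraMap_eq fun b => (hι b).symm
  haveI : IsScalarTower B C C' := IsScalarTower.of_algebraMap_eq fun b => rfl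
  haveI : IsScalarTower B B' (C' ⊗[C] M) := TensorProduct.isScalarTower_left
  let L : B' ⊗[B] M →ₗ[B'] C' ⊗[C] M :=
    LinearMap.liftBaseChange B' (((TensorProduct.mk C C' M) 1).restrictScalars B)
  let eB := Algebra.IsPushout.cancelBaseChange A T B B' M
  let eC := Algebra.IsPushout.cancelBaseChange A T C C' M
  have key : ∀ z, eC (L z) = eB z := fun z => by
    induction z using TensorProduct.induction_on with
    | zero => simp
    | add x y hx hy => simp only [map_add, hx, hy]
    | tmul x m =>
      induction x using TensorProduct.induction_on with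
      | zero => simp
      | add x y hx hy => simp only [TensorProduct.add_tmul, map_add, hx, hy]
      | tmul r b =>
        have hx : (r ⊗ₜ[A] b : B') = r • algebraMap B B' b := by
          show _ = r • ((1 : T) ⊗ₜ[A] b)
          rw [TensorProduct.smul_tmul', smul_eq_mul, mul_one]
        rw [hx, ← TensorProduct.smul_tmul', ← algebraMap_smul B' r, map_smul, algebraMap_smul, map_smul,
          algebraMap_smul, map_smul, Algebra.algebraMap_eq_smul_one, TensorProduct.smul_tmul]
        refine congrArg (r • ·) ?_
        rw [LinearMap.liftBaseChange_tmul, one_smul]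
        show eC ((1 : C') ⊗ₜ[C] (b • m)) = eB ((1 : B') ⊗ₜ[B] (b • m))
        rw [Algebra.IsPushout.cancelBaseChange_tmul, Algebra.IsPushout.cancelBaseChange_tmul]
  have hL : Function.Bijective L := by
    rw [← Function.Bijective.of_comp_iff' eC.bijective, show (eC : _ → _) ∘ L = eB from funext key]
    exact eB.bijective
  exact (flatInDimGE_congr (LinearEquiv.ofBijective L hL)).symm

variable {A' B' N N' : Type u} [CommRing A'] [CommRing B'] [Algebra A A'] [Algebra B B'] [Algebra A' B']
  [Algebra A B'] [IsScalarTower A B B'] [IsScalarTower A A' B'] [Algebra.IsPushout A B A' B']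
  [AddCommGroup N] [Module B N]
  [AddCommGroup N'] [Module B' N'] [Module B N'] [IsScalarTower B B' N'] [Module A' N'] [IsScalarTower A' B' N']

theorem ge_iff_of_isBaseChange (φ : N →ₗ[B] N') (hφ : IsBaseChange B' φ) (n : ℕ) :
    FlatCA.FlatInDimGE n A' B' N' ↔ GE (A := A) A' n B N := by
  haveI : Algebra.IsPushout A A' B B' := Algebra.IsPushout.symm ‹_›
  let e : A' ⊗[A] B ≃ₐ[A'] B' := Algebra.IsPushout.equiv A A' B B'
  let B'' := A' ⊗[A] B
  letI : Algebra B'' B' := e.toAlgHom.toRingHom.toAlgebra
  haveI : IsScalarTower A' B'' B' := IsScalarTower.of_algebraMap_eq fun x => (e.commutes x).symm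
  haveI : Module.Finite B'' B' := Module.Finite.of_surjective (Algebra.linearMap B'' B') e.surjective
  letI : Module B'' N' := Module.compHom N' e.toAlgHom.toRingHom
  haveI : IsScalarTower B'' B' N' := IsScalarTower.of_algebraMap_smul fun _ _ => rfl
  haveI : IsScalarTower A' B'' N' := IsScalarTower.of_algebraMap_smul fun r x => by
    show e (algebraMap A' B'' r) • x = r • x
    rw [AlgEquiv.commutes, algebraMap_smul]
  have he : ∀ b : B, e ((1 : A') ⊗ₜ[A] b) = algebraMap B B' b := fun b => by
    rw [Algebra.IsPushout.equiv_tmul, map_one, one_mul]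
  haveI : IsScalarTower B B'' N' := IsScalarTower.of_algebraMap_smul fun b x => by
    show e ((1 : A') ⊗ₜ[A] b) • x = b • x
    rw [he, algebraMap_smul]
  refine (flatInDimGE_finite_iff (R := A') (B := B'') (C := B') (M := N') n).trans ?_
  let L : B'' ⊗[B] N →ₗ[B''] N' := LinearMap.liftBaseChange B'' φ
  let e₀ : B'' ≃ₗ[B] B' :=
    { e.toRingEquiv.toAddEquiv with
      map_smul' := fun b x => by
        show e (b • x) = b • e x
        rw [Algebra.smul_def, Algebra.smul_def, map_mul]
        congr 1
        exact he b }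
  have key : (L : B'' ⊗[B] N → N') = hφ.equiv ∘ LinearEquiv.rTensor N e₀ := funext fun z => by
    induction z using TensorProduct.induction_on with
    | zero => simp
    | add x y hx hy => simp only [Function.comp_apply, map_add] at hx hy ⊢; rw [hx, hy]
    | tmul x m =>
      rw [Function.comp_apply, LinearEquiv.rTensor_tmul, hφ.equiv_tmul, LinearMap.liftBaseChange_tmul]
      rfl
  have hL : Function.Bijective L := by rw [key]; exact hφ.equiv.bijective.comp (LinearEquiv.bijective _)
  exact (flatInDimGE_congr (LinearEquiv.ofBijective L hL)).symm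

end Groth.Agent.FlatGE4
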